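import Cfsg.Agent.LieClassical.SUBasic

/-!
# Block diagonal embeddings into `SL`, `SU`, `PSL`, `PSU`
-/

set_option autoImplicit false

namespace Cfsg.Agent.H322.Cent

open Matrix

section SL

variable {F : Type*} [Field F] {k l : ℕ}

/-- block diagonal matrices -/
def bdm (A : Matrix (Fin k) (Fin k) F) (B : Matrix (Fin l) (Fin l) F) : Matrix (Fin (k + l)) (Fin (k + l)) F :=
  (fromBlocks A 0 0 B).submatrix finSumFinEquiv.symm finSumFinEquiv.symm

theorem bdm_mul (A A' : Matrix (Fin k) (Fin k) F) (B B' : Matrix (Fin l) (Fin l) F) :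
    bdm (A * A') (B * B') = bdm A B * bdm A' B' := by
  unfold bdm
  rw [submatrix_mul_equiv, fromBlocks_multiply]
  simp

theorem bdm_one : bdm (1 : Matrix (Fin k) (Fin k) F) (1 : Matrix (Fin l) (Fin l) F) = 1 := by
  unfold bdm
  rw [fromBlocks_one, submatrix_one_equiv]

theorem bdm_castAdd (A : Matrix (Fin k) (Fin k) F) (B : Matrix (Fin l) (Fin l) F) (i j : Fin k) :
    bdm A B (Fin.castAdd l i) (Fin.castAdd l j) = A i j := by
  simp [bdm]

theorem bdm_natAdd (A : Matrix (Fin k) (Fin k) F) (B : Matrix (Fin l) (Fin l) F) (i j : Fin l) :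
    bdm A B (Fin.natAdd k i) (Fin.natAdd k j) = B i j := by
  simp [bdm]

theorem bdm_det (A : Matrix (Fin k) (Fin k) F) (B : Matrix (Fin l) (Fin l) F) :
    (bdm A B).det = A.det * B.det := by
  unfold bdm
  rw [det_submatrix_equiv_self, det_fromBlocks_zero₂₁]

/-- block diagonal matrices in `SL` -/
def bd : SpecialLinearGroup (Fin k) F × SpecialLinearGroup (Fin l) F →* SpecialLinearGroup (Fin (k + l)) F where
  toFun p := ⟨bdm p.1.1 p.2.1, by rw [bdm_det, p.1.2, p.2.2, one_mul]⟩
  map_one' := Subtype.ext (by exact bdm_one)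
  map_mul' p p' := Subtype.ext (by exact bdm_mul _ _ _ _)

theorem coe_bd (p : SpecialLinearGroup (Fin k) F × SpecialLinearGroup (Fin l) F) :
    (bd p : Matrix (Fin (k + l)) (Fin (k + l)) F) = bdm p.1.1 p.2.1 := rfl

/-- scalar block diagonal matrices -/
theorem eq_one_of_scalar {A : SpecialLinearGroup (Fin k) F} {B : SpecialLinearGroup (Fin l) F} {c : F}
    (h : bdm A.1 B.1 = diagonal (fun _ => c)) (hk : 0 < k) (hl : 0 < l) : (A = 1 → B = 1) ∧ (B = 1 → A = 1) := by
  have h1 : ∀ i j, A.1 i j = diagonal (fun _ => c) i j := by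
    intro i j
    rw [← bdm_castAdd A.1 B.1 i j, h]
    by_cases hij : i = j
    · subst hij
      rw [diagonal_apply_eq, diagonal_apply_eq]
    · rw [diagonal_apply_ne _ hij, diagonal_apply_ne]
      exact fun e => hij (Fin.castAdd_injective k l e)
  have h2 : ∀ i j, B.1 i j = diagonal (fun _ => c) i j := by
    intro i j
    rw [← bdm_natAdd A.1 B.1 i j, h]
    by_cases hij : i = j
    · subst hij
      rw [diagonal_apply_eq, diagonal_apply_eq]
    · rw [diagonal_apply_ne _ hij, diagonal_apply_ne]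
      exact fun e => hij (Fin.natAdd_injective l k e)
  constructor
  · rintro rfl
    have h3 := h1 ⟨0, hk⟩ ⟨0, hk⟩
    rw [diagonal_apply_eq] at h3
    have hc : c = 1 := by rw [← h3]; simp
    subst hc
    apply Subtype.ext
    ext i j
    rw [h2, diagonal_one]; rfl
  · rintro rfl
    have h3 := h2 ⟨0, hl⟩ ⟨0, hl⟩
    rw [diagonal_apply_eq] at h3
    have hc : c = 1 := by rw [← h3]; simp
    subst hc
    apply Subtype.ext
    ext i j
    rw [h1, diagonal_one]; rfl

/-- central elements are scalar -/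
theorem scalar_of_center {n : ℕ} {A : SpecialLinearGroup (Fin n) F}
    (h : A ∈ Subgroup.center (SpecialLinearGroup (Fin n) F)) : ∃ c : F, A.1 = diagonal (fun _ => c) := by
  rw [Matrix.SpecialLinearGroup.mem_center_iff] at h
  obtain ⟨r, -, hr⟩ := h
  exact ⟨r, hr.symm⟩

/-- the first block in `PSL` -/
def blk1 (k l : ℕ) (F : Type*) [Field F] :
    SpecialLinearGroup (Fin k) F →* ProjectiveSpecialLinearGroup (Fin (k + l)) F :=
  (QuotientGroup.mk' _).comp (bd.comp (MonoidHom.inl _ _))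

/-- the second block in `PSL` -/
def blk2 (k l : ℕ) (F : Type*) [Field F] :
    SpecialLinearGroup (Fin l) F →* ProjectiveSpecialLinearGroup (Fin (k + l)) F :=
  (QuotientGroup.mk' _).comp (bd.comp (MonoidHom.inr _ _))

theorem blk1_injective (hk : 0 < k) (hl : 0 < l) : Function.Injective (blk1 k l F) := by
  rw [injective_iff_map_eq_one]
  intro A hA
  have h1 : bd (A, (1 : SpecialLinearGroup (Fin l) F)) ∈ Subgroup.center _ := (QuotientGroup.eq_one_iff _).1 hA
  obtain ⟨c, hc⟩ := scalar_of_center h1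
  exact (eq_one_of_scalar (A := A) (B := 1) hc hk hl).2 rfl

theorem blk2_injective (hk : 0 < k) (hl : 0 < l) : Function.Injective (blk2 k l F) := by
  rw [injective_iff_map_eq_one]
  intro B hB
  have h1 : bd ((1 : SpecialLinearGroup (Fin k) F), B) ∈ Subgroup.center _ := (QuotientGroup.eq_one_iff _).1 hB
  obtain ⟨c, hc⟩ := scalar_of_center h1
  exact (eq_one_of_scalar (A := 1) (B := B) hc hk hl).1 rfl

theorem blk_comm (A : SpecialLinearGroup (Fin k) F) (B : SpecialLinearGroup (Fin l) F) :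
    blk1 k l F A * blk2 k l F B = blk2 k l F B * blk1 k l F A := by
  change QuotientGroup.mk' _ (bd (A, 1)) * QuotientGroup.mk' _ (bd (1, B)) =
    QuotientGroup.mk' _ (bd (1, B)) * QuotientGroup.mk' _ (bd (A, 1))
  rw [← map_mul, ← map_mul, ← map_mul, ← map_mul]
  simp

end SL

section SU

open Cfsg.Agent.LieClassical.SUBasic

variable {F : Type*} [Field F] {k l q : ℕ}

theorem bd_mem {A : SpecialLinearGroup (Fin k) F} {B : SpecialLinearGroup (Fin l) F} (hA : A ∈ SU k F q)
    (hB : B ∈ SU l F q) : bd (A, B) ∈ SU (k + l) F q := by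
  rw [mem_SU_iff] at *
  intro u v
  have key : ∀ w : Fin (k + l) → F, ∀ i, (bdm A.1 B.1 *ᵥ w) (finSumFinEquiv i) =
      Sum.elim (A.1 *ᵥ fun j => w (Fin.castAdd l j)) (B.1 *ᵥ fun j => w (Fin.natAdd k j)) i := by
    intro w i
    unfold bdm
    rw [submatrix_mulVec_equiv]
    simp only [Function.comp_apply, Equiv.symm_symm, Equiv.symm_apply_apply]
    rw [fromBlocks_mulVec]
    rcases i with i | i <;> simp <;> rfl
  have split : ∀ x y : Fin (k + l) → F, hermForm (k + l) F q x y =
      hermForm k F q (fun j => x (Fin.castAdd l j)) (fun j => y (Fin.castAdd l j)) +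
      hermForm l F q (fun j => x (Fin.natAdd k j)) (fun j => y (Fin.natAdd k j)) := by
    intro x y
    simp only [hermForm_apply]
    rw [Fin.sum_univ_add]
  rw [split, coe_bd]
  have e1 : ∀ w : Fin (k + l) → F, (fun j => (bdm A.1 B.1 *ᵥ w) (Fin.castAdd l j)) =
      A.1 *ᵥ fun j => w (Fin.castAdd l j) := by
    intro w
    funext j
    exact key w (Sum.inl j)
  have e2 : ∀ w : Fin (k + l) → F, (fun j => (bdm A.1 B.1 *ᵥ w) (Fin.natAdd k j)) =
      B.1 *ᵥ fun j => w (Fin.natAdd k j) := by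
    intro w
    funext j
    exact key w (Sum.inr j)
  rw [e1, e1, e2, e2, hA, hB, ← split]

/-- block diagonal matrices in `SU` -/
def bdU : SU k F q × SU l F q →* SU (k + l) F q where
  toFun p := ⟨bd (p.1.1, p.2.1), bd_mem p.1.2 p.2.2⟩
  map_one' := Subtype.ext (map_one bd)
  map_mul' p p' := Subtype.ext (map_mul bd (p.1.1, p.2.1) (p'.1.1, p'.2.1))

/-- the first block in `PSU` -/
def ublk1 (k l : ℕ) (F : Type*) [Field F] (q : ℕ) : SU k F q →* PSU (k + l) F q :=
  (QuotientGroup.mk' _).comp (bdU.comp (MonoidHom.inl _ _))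

/-- the second block in `PSU` -/
def ublk2 (k l : ℕ) (F : Type*) [Field F] (q : ℕ) : SU l F q →* PSU (k + l) F q :=
  (QuotientGroup.mk' _).comp (bdU.comp (MonoidHom.inr _ _))

theorem scalar_of_centerU [Fintype F] {n : ℕ} (hF : Fintype.card F = q ^ 2) (hn : 3 ≤ n) {A : SU n F q}
    (h : A ∈ Subgroup.center (SU n F q)) : ∃ c : F, A.1.1 = diagonal (fun _ => c) := by
  obtain ⟨c, hcn, hcq, rfl⟩ := (mem_center_SU_iff hF hn A).1 h
  exact ⟨c, rfl⟩

theorem ublk1_injective [Fintype F] (hF : Fintype.card F = q ^ 2) (hn : 3 ≤ k + l) (hk : 0 < k) (hl : 0 < l) :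
    Function.Injective (ublk1 k l F q) := by
  rw [injective_iff_map_eq_one]
  intro A hA
  have h1 : bdU (A, (1 : SU l F q)) ∈ Subgroup.center _ := (QuotientGroup.eq_one_iff _).1 hA
  obtain ⟨c, hc⟩ := scalar_of_centerU hF hn h1
  exact Subtype.ext ((eq_one_of_scalar (A := A.1) (B := 1) hc hk hl).2 rfl)

theorem ublk2_injective [Fintype F] (hF : Fintype.card F = q ^ 2) (hn : 3 ≤ k + l) (hk : 0 < k) (hl : 0 < l) :
    Function.Injective (ublk2 k l F q) := by
  rw [injective_iff_map_eq_one]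
  intro B hB
  have h1 : bdU ((1 : SU k F q), B) ∈ Subgroup.center _ := (QuotientGroup.eq_one_iff _).1 hB
  obtain ⟨c, hc⟩ := scalar_of_centerU hF hn h1
  exact Subtype.ext ((eq_one_of_scalar (A := 1) (B := B.1) hc hk hl).1 rfl)

theorem ublk_comm (A : SU k F q) (B : SU l F q) :
    ublk1 k l F q A * ublk2 k l F q B = ublk2 k l F q B * ublk1 k l F q A := by
  change QuotientGroup.mk' _ (bdU (A, 1)) * QuotientGroup.mk' _ (bdU (1, B)) =
    QuotientGroup.mk' _ (bdU (1, B)) * QuotientGroup.mk' _ (bdU (A, 1))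
  rw [← map_mul, ← map_mul, ← map_mul, ← map_mul]
  simp

end SU

end Cfsg.Agent.H322.Cent
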