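import Cfsg.Agent.H322.Cent.Basic
import Cfsg.Agent.SporadicA.GolayPerm
import Cfsg.Agent.HN.AutHS
import Cfsg.Prelude.Def_Spor_Mathieu
import Cfsg.Prelude.Def_Spor_Conway

/-!
# The sporadic groups `M11`, `M23`, `HS`
-/

set_option autoImplicit false

namespace Cfsg.Agent.H322.Cent

open Cfsg Cfsg.Agent.SporadicA.GolayPerm Cfsg.Agent.SporadicA.GolayBase
open scoped Pointwise

/-! ### elements of `M24` -/

theorem pcomp_eq {P Q R : ℕ} (hP : isPerm P = true) (hQ : isPerm Q = true) (hR : isPerm R = true)
    (h : (List.range 24).all (fun i => Nat.beq (papp P (papp Q i)) (papp R i)) = true) :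
    permOf P hP * permOf Q hQ = permOf R hR := by
  rw [← permOf_pcomp hP hQ, permOf_eq_permOf_iff]
  intro i hi
  rw [papp_pcomp P Q hi]
  exact Nat.eq_of_beq_eq_true (List.all_eq_true.1 h i (List.mem_range.2 hi))

theorem pcomp_one {P Q : ℕ} (hP : isPerm P = true) (hQ : isPerm Q = true)
    (h : (List.range 24).all (fun i => Nat.beq (papp P (papp Q i)) i) = true) :
    permOf P hP * permOf Q hQ = 1 := by
  ext1 p
  rw [Equiv.Perm.mul_apply, permOf_apply, idx_permOf, Equiv.Perm.one_apply,
    Nat.eq_of_beq_eq_true (List.all_eq_true.1 h _ (List.mem_range.2 (idx_lt p))), pt_idx]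

theorem ne_one {P : ℕ} (hP : isPerm P = true) {i : ℕ} (hi : i < 24) (h : papp P i ≠ i) : permOf P hP ≠ 1 := by
  intro h1
  apply h
  have h2 := congrArg (fun g : Equiv.Perm GolayPt => idx (g (pt i))) h1
  simp only [idx_permOf, idx_pt hi, Equiv.Perm.one_apply] at h2
  exact h2

theorem fix_pt {P : ℕ} (hP : isPerm P = true) {i : ℕ} (hi : i < 24) (h : papp P i = i) :
    permOf P hP (pt i) = pt i := by
  rw [permOf_apply, idx_pt hi, h]

/-- data -/
def A3 : ℕ := 984444075913683225963296778239449760
theorem pA3 : isPerm A3 = true := by decide +kernel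
/-- data -/
def A32 : ℕ := 983992670974634444864300050861367680
theorem pA32 : isPerm A32 = true := by decide +kernel
/-- data -/
def B5 : ℕ := 977700375975832063521819329562125398
theorem pB5 : isPerm B5 = true := by decide +kernel
/-- data -/
def B52 : ℕ := 960109191519269477238891921482456369
theorem pB52 : isPerm B52 = true := by decide +kernel
/-- data -/
def B54 : ℕ := 956040034599349480979575415605068943
theorem pB54 : isPerm B54 = true := by decide +kernel
/-- data -/
def AB : ℕ := 977797779563118829191087593402912982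
theorem pAB : isPerm AB = true := by decide +kernel
/-- data -/
def Cs : ℕ := 816061783011650072799398389186036928
theorem pCs : isPerm Cs = true := by decide +kernel
/-- data -/
def Cs2 : ℕ := 311120420898571144304531474683926592
theorem pCs2 : isPerm Cs2 = true := by decide +kernel
/-- data -/
def Cx : ℕ := 982053498306117882053864471818186848
theorem pCx : isPerm Cx = true := by decide +kernel
/-- data -/
def Cx2 : ℕ := 975288047478159425401548877949089056
theorem pCx2 : isPerm Cx2 = true := by decide +kernel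
/-- data -/
def Ct : ℕ := 973968420574796809057970364740646176
theorem pCt : isPerm Ct = true := by decide +kernel
/-- data -/
def Csx : ℕ := 809418025944989318047331609917656320
theorem pCsx : isPerm Csx = true := by decide +kernel
/-- data -/
def Cst : ℕ := 796139383704716175166132490489570432
theorem pCst : isPerm Cst = true := by decide +kernel
/-- data -/
def Ctx : ℕ := 962577312435993911688230315680116832
theorem pCtx : isPerm Ctx = true := by decide +kernel

theorem mem_M23 {P : ℕ} (hP : isPerm P = true) (hA : isAut P = true) (h : papp P 23 = 23) :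
    permOf P hP ∈ Spor.M23 :=
  ⟨permOf_mem_M24 hP hA, fix_pt hP (i := 23) (by norm_num) h⟩

theorem not_m23 {G : Type*} [Group G] (h : Q G) : ¬ Spor.IsoM23 G := by
  rintro ⟨e⟩
  have hQ := h.of_equiv e
  let s : Spor.M23 := ⟨permOf A3 pA3, mem_M23 pA3 (by decide +kernel) (by decide +kernel)⟩
  let y : Spor.M23 := ⟨permOf B5 pB5, mem_M23 pB5 (by decide +kernel) (by decide +kernel)⟩
  have : Fact (Nat.Prime 3) := ⟨Nat.prime_three⟩
  have : Fact (Nat.Prime 5) := ⟨Nat.prime_five⟩
  have hs : orderOf s = 3 := by
    apply orderOf_eq_prime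
    · apply Subtype.ext
      change permOf A3 pA3 ^ 3 = 1
      rw [pow_succ, pow_two, pcomp_eq pA3 pA3 pA32 (by decide +kernel), pcomp_one pA32 pA3 (by decide +kernel)]
    · intro h1
      exact ne_one pA3 (i := 1) (by norm_num) (by decide +kernel) (congrArg Subtype.val h1)
  have hy : orderOf y = 5 := by
    apply orderOf_eq_prime
    · apply Subtype.ext
      change permOf B5 pB5 ^ 5 = 1
      rw [show (5 : ℕ) = 2 * 2 + 1 from rfl, pow_succ, pow_mul, pow_two, pow_two, pcomp_eq pB5 pB5 pB52 (by decide +kernel),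
        pcomp_eq pB52 pB52 pB54 (by decide +kernel), pcomp_one pB54 pB5 (by decide +kernel)]
    · intro h1
      exact ne_one pB5 (i := 0) (by norm_num) (by decide +kernel) (congrArg Subtype.val h1)
  have hsy : s * y = y * s := by
    apply Subtype.ext
    change permOf A3 pA3 * permOf B5 pB5 = permOf B5 pB5 * permOf A3 pA3
    rw [pcomp_eq pA3 pB5 pAB (by decide +kernel), pcomp_eq pB5 pA3 pAB (by decide +kernel)]
  have h1 := hQ.orderOf_dvd hs hsy
  rw [hy] at h1
  norm_num at h1


theorem squareDodecad_eq : Spor.squareDodecad = fin 340831 := by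
  have h := word_qrMask 0
  have h1 : qrMask ((0 : ZMod 23).val) = 340831 := by decide +kernel
  rw [h1] at h
  rw [Spor.squareDodecad, ← h, support₂_word]

theorem mem_M11 {P : ℕ} (hP : isPerm P = true) (hA : isAut P = true) (h : papp P 0 = 0)
    (hD : pimg P 340831 = 340831) : permOf P hP ∈ Spor.M11 := by
  refine ⟨⟨permOf_mem_M24 hP hA, ?_⟩, fix_pt hP (i := 0) (by norm_num) h⟩
  change permOf P hP • Spor.squareDodecad = Spor.squareDodecad
  rw [squareDodecad_eq, smul_fin, hD]

theorem not_m11 {G : Type*} [Group G] (h : Q G) : ¬ Spor.IsoM11 G := by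
  rintro ⟨e⟩
  have hQ := h.of_equiv e
  let s : Spor.M11 := ⟨permOf Cs pCs, mem_M11 pCs (by decide +kernel) (by decide +kernel) (by decide +kernel)⟩
  let x : Spor.M11 := ⟨permOf Cx pCx, mem_M11 pCx (by decide +kernel) (by decide +kernel) (by decide +kernel)⟩
  let t : Spor.M11 := ⟨permOf Ct pCt, mem_M11 pCt (by decide +kernel) (by decide +kernel) (by decide +kernel)⟩
  have : Fact (Nat.Prime 3) := ⟨Nat.prime_three⟩
  have hs : orderOf s = 3 := by
    apply orderOf_eq_prime
    · apply Subtype.ext
      change permOf Cs pCs ^ 3 = 1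
      rw [pow_succ, pow_two, pcomp_eq pCs pCs pCs2 (by decide +kernel), pcomp_one pCs2 pCs (by decide +kernel)]
    · intro h1
      exact ne_one pCs (i := 1) (by norm_num) (by decide +kernel) (congrArg Subtype.val h1)
  have hx3 : x ^ 3 = 1 := by
    apply Subtype.ext
    change permOf Cx pCx ^ 3 = 1
    rw [pow_succ, pow_two, pcomp_eq pCx pCx pCx2 (by decide +kernel), pcomp_one pCx2 pCx (by decide +kernel)]
  have hx : orderOf x = 3 := by
    apply orderOf_eq_prime hx3
    intro h1
    exact ne_one pCx (i := 1) (by norm_num) (by decide +kernel) (congrArg Subtype.val h1)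
  have hsx : s * x = x * s := by
    apply Subtype.ext
    change permOf Cs pCs * permOf Cx pCx = permOf Cx pCx * permOf Cs pCs
    rw [pcomp_eq pCs pCx pCsx (by decide +kernel), pcomp_eq pCx pCs pCsx (by decide +kernel)]
  have hst : s * t = t * s := by
    apply Subtype.ext
    change permOf Cs pCs * permOf Ct pCt = permOf Ct pCt * permOf Cs pCs
    rw [pcomp_eq pCs pCt pCst (by decide +kernel), pcomp_eq pCt pCs pCst (by decide +kernel)]
  have htx : t * x = x * x * t := by
    apply Subtype.ext
    change permOf Ct pCt * permOf Cx pCx = permOf Cx pCx * permOf Cx pCx * permOf Ct pCt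
    rw [pcomp_eq pCx pCx pCx2 (by decide +kernel), pcomp_eq pCt pCx pCtx (by decide +kernel),
      pcomp_eq pCx2 pCt pCtx (by decide +kernel)]
  refine hQ.noinv s x t hs hx hsx hst ?_
  rw [htx, mul_assoc, mul_inv_cancel, mul_one]
  exact eq_inv_of_mul_eq_one_left (by rw [← hx3, pow_succ, pow_two])


/-! ### `HS` -/

open Cfsg.Agent.SporadicA.PermTab Cfsg.Agent.HN.HS100 in
/-- an element of order 15 of the Higman-Sims group and its powers -/
def h15 : ℕ := 0xbc0642b8520aa0302d01f04c0b41f0530740101c8110281881485f08618c1202f0b20ac250340820dc1802e0421100785d09c0a01500d0a20c81b03b01c0d41182702a108028010a812c2380008a1582800a0980fc200490300200903c09a01c3085c00416c0e0090620f40d04f0161200805802e0880180606606c0f0460700b01001604a07430013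
/-- data -/
def h3 : ℕ := 0x1342205c04604c0784a0bc05c0102105c1580c01402407c1c8350680b0228580361800085400a1183102804e0f81004100c0741e85d0aa12c0485f06e0780381107e164018190a6028188150a40a81b06102003023830070088260400560a42104907418c1203b01a058270480b60bc278430780382d00b04c15c288080a00cc1280405a0c80e01a
/-- data -/
def h5 : ℕ := 0xc1701901906c0b02382409c1040504f0840f41a8580860702f839024030250110500c02284c02e0883005909012c1882d0bc06c020250a0110118290100600482f0b60b81e0520200f80780b0020582a8020a818c2d02b03c0dc1a0030920ec1d04d0c20fc0f8070401581302102a09c2981400a118200000340741c00e0a204c0682a0ba15c31033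

section HS

open Cfsg.Agent.SporadicA.PermTab Cfsg.Agent.HN.HS100

theorem in15 : InG Cfsg.Agent.HN.HS100.Q h15 := by
  apply InG.word (L := [tW, tY, tW, tY, tY, tY, tY, tX])
  · intro P hP
    simp only [List.mem_cons, List.not_mem_nil, or_false] at hP
    rcases hP with rfl | rfl | rfl | rfl | rfl | rfl | rfl | rfl
    · exact inW
    · exact inY
    · exact inW
    · exact inY
    · exact inY
    · exact inY
    · exact inY
    · exact inX
  · decide +kernel

theorem in3 : InG Cfsg.Agent.HN.HS100.Q h3 := by
  apply InG.word (L := [h15, h15, h15, h15, h15])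
  · intro P hP
    simp only [List.mem_cons, List.not_mem_nil, or_false] at hP
    rcases hP with rfl | rfl | rfl | rfl | rfl <;> exact in15
  · decide +kernel

theorem in5 : InG Cfsg.Agent.HN.HS100.Q h5 := by
  apply InG.word (L := [h15, h15, h15])
  · intro P hP
    simp only [List.mem_cons, List.not_mem_nil, or_false] at hP
    rcases hP with rfl | rfl | rfl <;> exact in15
  · decide +kernel

theorem chk (f : ℕ → Bool) (h : allB f 100 = true) (i : Fin 100) : f i = true := (allB_iff _ _).1 h i i.2

theorem not_hs {G : Type*} [Group G] (h : Q G) : ¬ Spor.IsoHS G := by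
  rintro ⟨e⟩
  obtain ⟨⟨f⟩, -⟩ := Cfsg.Agent.HN.AutHS.nonempty_Q
  have hQ := h.of_equiv (e.trans f.symm)
  obtain ⟨s, hs, hsi⟩ := in3
  obtain ⟨y, hy, hyi⟩ := in5
  have : Fact (Nat.Prime 3) := ⟨Nat.prime_three⟩
  have : Fact (Nat.Prime 5) := ⟨Nat.prime_five⟩
  have hs3 : orderOf (⟨s, hs⟩ : Cfsg.Agent.HN.HS100.Q) = 3 := by
    apply orderOf_eq_prime
    · apply Subtype.ext
      change s ^ 3 = 1
      refine Equiv.ext fun i => Fin.ext ?_
      change (s (s (s i)) : ℕ) = i
      rw [hsi, hsi, hsi]
      exact Nat.eq_of_beq_eq_true (chk (fun i => Nat.beq (lk h3 (lk h3 (lk h3 i))) i) (by decide +kernel) i)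
    · intro h1
      have h2 : s = 1 := congrArg Subtype.val h1
      have h4 := hsi 0
      rw [h2] at h4
      exact absurd h4 (by decide +kernel)
  have hy5 : orderOf (⟨y, hy⟩ : Cfsg.Agent.HN.HS100.Q) = 5 := by
    apply orderOf_eq_prime
    · apply Subtype.ext
      change y ^ 5 = 1
      refine Equiv.ext fun i => Fin.ext ?_
      change (y (y (y (y (y i)))) : ℕ) = i
      rw [hyi, hyi, hyi, hyi, hyi]
      exact Nat.eq_of_beq_eq_true (chk (fun i => Nat.beq (lk h5 (lk h5 (lk h5 (lk h5 (lk h5 i))))) i) (by decide +kernel) i)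
    · intro h1
      have h2 : y = 1 := congrArg Subtype.val h1
      have h4 := hyi 0
      rw [h2] at h4
      exact absurd h4 (by decide +kernel)
  have hsy : (⟨s, hs⟩ : Cfsg.Agent.HN.HS100.Q) * ⟨y, hy⟩ = ⟨y, hy⟩ * ⟨s, hs⟩ := by
    apply Subtype.ext
    change s * y = y * s
    refine Equiv.ext fun i => Fin.ext ?_
    change (s (y i) : ℕ) = y (s i)
    rw [hsi, hyi, hyi, hsi]
    exact Nat.eq_of_beq_eq_true (chk (fun i => Nat.beq (lk h3 (lk h5 i)) (lk h5 (lk h3 i))) (by decide +kernel) i)
  have h1 := hQ.orderOf_dvd hs3 hsy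
  rw [hy5] at h1
  norm_num at h1

end HS

end Cfsg.Agent.H322.Cent
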