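import Cfsg.Agent.H322.Cent.Lin
import Cfsg.Agent.S0280
import Cfsg.Agent.S0281

/-!
# `PSL_3(q)` and the unitary groups
-/

set_option autoImplicit false

namespace Cfsg.Agent.H322.Cent

open Matrix

/-- 27 is prime to `q - 1` for powers of 3 -/
theorem cop27 {n : ℕ} (hn : 1 ≤ n) : Nat.Coprime 27 (3 ^ n - 1) := by
  rw [show (27 : ℕ) = 3 ^ 3 by norm_num]
  apply Nat.Coprime.pow_left
  rw [Nat.Prime.coprime_iff_not_dvd Nat.prime_three]
  intro hd
  have h5 : (3 : ℕ) ∣ 3 ^ n := dvd_pow_self 3 (by omega)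
  have h6 : 1 ≤ 3 ^ n := Nat.one_le_pow _ _ (by norm_num)
  have h7 := (Nat.dvd_sub_iff_right h6 h5).1 hd
  omega

theorem cop27' {n : ℕ} (hn : 1 ≤ n) : Nat.Coprime 27 (3 ^ n + 1) := by
  rw [show (27 : ℕ) = 3 ^ 3 by norm_num]
  apply Nat.Coprime.pow_left
  rw [Nat.Prime.coprime_iff_not_dvd Nat.prime_three]
  intro hd
  have h5 : (3 : ℕ) ∣ 3 ^ n := dvd_pow_self 3 (by omega)
  have h7 := (Nat.dvd_add_right h5).1 hd
  omega

theorem cop9 {m : ℕ} (hm : ¬ 3 ∣ m) : Nat.Coprime 9 m := by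
  rw [show (9 : ℕ) = 3 ^ 2 by norm_num]
  apply Nat.Coprime.pow_left
  rwa [Nat.Prime.coprime_iff_not_dvd Nat.prime_three]

/-- cube roots of 1 -/
theorem card_cube {F : Type*} [Field F] [Finite F] {T : Type*} [Group T] [Finite T] (f : T → Fˣ)
    (hf : Function.Injective f) (h : ∀ t, f t ^ 3 = 1) : Nat.card T ≤ 3 := by
  classical
  have := Fintype.ofFinite Fˣ
  have h1 : Nat.card T ≤ Nat.card {x : Fˣ // x ^ 3 = 1} :=
    Nat.card_le_card_of_injective (fun t => (⟨f t, h t⟩ : {x : Fˣ // x ^ 3 = 1}))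
      (fun a b hab => hf (congrArg Subtype.val hab))
  refine h1.trans ?_
  rw [Nat.card_eq_fintype_card, Fintype.card_subtype]
  exact IsCyclic.card_pow_eq_one_le (by norm_num)

section SL

variable {F : Type*} [Field F]

/-- diagonal matrices -/
def dg : Fˣ × Fˣ →* SpecialLinearGroup (Fin 3) F where
  toFun p := ⟨diagonal ![(p.1 : F), (p.2 : F), ((p.1 * p.2)⁻¹ : Fˣ)], by
    rw [det_diagonal, Fin.prod_univ_three]
    change (p.1 : F) * (p.2 : F) * (((p.1 * p.2)⁻¹ : Fˣ) : F) = 1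
    rw [← Units.val_mul, ← Units.val_mul, mul_inv_cancel, Units.val_one]⟩
  map_one' := by
    apply Subtype.ext
    change diagonal ![((1 : Fˣ) : F), ((1 : Fˣ) : F), ((1 * 1)⁻¹ : Fˣ)] = (1 : Matrix (Fin 3) (Fin 3) F)
    rw [← diagonal_one]
    congr 1
    funext i
    fin_cases i <;> simp
  map_mul' p r := by
    apply Subtype.ext
    change diagonal _ = diagonal _ * diagonal _
    rw [diagonal_mul_diagonal]
    congr 1
    funext i
    fin_cases i
    · simp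
    · simp
    · change (((p.1 * r.1 * (p.2 * r.2))⁻¹ : Fˣ) : F) = ((p.1 * p.2)⁻¹ : Fˣ) * ((r.1 * r.2)⁻¹ : Fˣ)
      rw [← Units.val_mul]
      congr 1
      rw [← mul_inv, mul_mul_mul_comm]

theorem dg_coe (p : Fˣ × Fˣ) : (dg p).1 = diagonal ![(p.1 : F), (p.2 : F), ((p.1 * p.2)⁻¹ : Fˣ)] := rfl

theorem scalar_dg {p : Fˣ × Fˣ} {c : F}
    (h : diagonal ![(p.1 : F), (p.2 : F), ((p.1 * p.2)⁻¹ : Fˣ)] = diagonal (fun _ : Fin 3 => c)) :
    p.1 = p.2 ∧ p.1 ^ 3 = 1 := by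
  have h0 := congrFun (diagonal_injective h) 0
  have h1 := congrFun (diagonal_injective h) 1
  have h2 := congrFun (diagonal_injective h) 2
  have e0 : (p.1 : F) = c := h0
  have e1 : (p.2 : F) = c := h1
  have e2 : (((p.1 * p.2)⁻¹ : Fˣ) : F) = c := h2
  have h3 : p.1 = p.2 := Units.ext (e0.trans e1.symm)
  refine ⟨h3, ?_⟩
  have h4 : p.1 = (p.1 * p.2)⁻¹ := Units.ext (e0.trans e2.symm)
  rw [← h3] at h4
  have h5 : p.1 * (p.1 * p.1) = 1 := by
    nth_rewrite 1 [h4]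
    exact inv_mul_cancel _
  rw [pow_succ, pow_two, ← h5, mul_assoc]

/-- `PSL_3(q)`, `q ≡ 1 (mod 3)` -/
theorem psl_three_one [Fintype F] (h : Q (ProjectiveSpecialLinearGroup (Fin 3) F)) (h3 : 3 ∣ Fintype.card F - 1) :
    Fintype.card F = 4 ∨ Fintype.card F = 7 := by
  classical
  have : Fact (Nat.Prime 3) := ⟨Nat.prime_three⟩
  have hcu : Nat.card Fˣ = Fintype.card F - 1 := by
    rw [Nat.card_eq_fintype_card, Fintype.card_units]
  obtain ⟨ω, hω⟩ := exists_prime_orderOf_dvd_card' (G := Fˣ) 3 (by rw [hcu]; exact h3)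
  let τ : Fˣ × Fˣ →* ProjectiveSpecialLinearGroup (Fin 3) F := (QuotientGroup.mk' _).comp dg
  have hker : ∀ p, τ p = 1 → p.1 = p.2 ∧ p.1 ^ 3 = 1 := by
    intro p hp
    have h1 : dg p ∈ Subgroup.center _ := (QuotientGroup.eq_one_iff _).1 hp
    obtain ⟨c, hc⟩ := scalar_of_center h1
    exact scalar_dg hc
  have ho : orderOf (τ (1, ω)) = 3 := by
    apply orderOf_eq_prime
    · rw [← map_pow]
      have : ((1, ω) : Fˣ × Fˣ) ^ 3 = 1 := by
        rw [Prod.ext_iff, Prod.pow_fst, Prod.pow_snd]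
        refine ⟨one_pow _, ?_⟩
        change ω ^ 3 = 1
        rw [← hω, pow_orderOf_eq_one]
      rw [this, map_one]
    · intro h1
      have h2 := (hker _ h1).1
      have h3 : (1 : Fˣ) = ω := h2
      rw [← h3, orderOf_one] at hω
      omega
  have h4 := torus h (T := Fˣ × Fˣ) (n := Fintype.card F - 1) (by rw [Nat.card_prod, hcu, sq]) τ ho
    (card_cube (F := F) (fun p : τ.ker => p.1.1) (by
      intro p r hpr
      have hp := (hker _ p.2).1
      have hr := (hker _ r.2).1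
      have hpr' : p.1.1 = r.1.1 := hpr
      apply Subtype.ext
      rw [Prod.ext_iff]
      exact ⟨hpr', by rw [← hp, ← hr, hpr']⟩) (fun p => (hker _ p.2).2)) h3
  omega

/-- `PSL_3(q)` -/
theorem psl_three [Fintype F] (h : Q (ProjectiveSpecialLinearGroup (Fin 3) F)) :
    Fintype.card F = 4 ∨ Fintype.card F = 7 := by
  have hcard := Cfsg.Agent.S0243.result (F := F) rfl 3 (by norm_num)
  rw [Fin.prod_univ_three] at hcard
  simp only [Fin.val_zero, Fin.val_one, Fin.val_two, pow_zero, pow_one] at hcard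
  have hq : 1 < Fintype.card F := Fintype.one_lt_card
  rcases char_cases F with ⟨n, hn1, hn⟩ | ⟨h3q, hcyc⟩
  · exfalso
    apply h.not27
    rw [hn] at hcard
    have hc := cop27 hn1
    apply hc.dvd_of_dvd_mul_left
    apply (Nat.Coprime.coprime_dvd_right (Nat.gcd_dvd_right 3 (3 ^ n - 1)) hc).dvd_of_dvd_mul_left
    rw [hcard]
    have h1 : (27 : ℕ) ∣ (3 ^ n) * (3 ^ n) ^ 2 := by
      rw [show (27 : ℕ) = 3 * 3 ^ 2 by norm_num]
      exact mul_dvd_mul (dvd_pow_self 3 (by omega)) (pow_dvd_pow_of_dvd (dvd_pow_self 3 (by omega)) 2)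
    refine h1.trans ?_
    rw [mul_assoc]
    apply Dvd.dvd.mul_left
    exact mul_dvd_mul (Nat.dvd_sub (dvd_pow_self _ (by norm_num)) dvd_rfl)
      (Nat.dvd_sub (pow_dvd_pow _ (by norm_num)) dvd_rfl)
  by_cases h1 : 3 ∣ Fintype.card F - 1
  · exact psl_three_one h h1
  · exfalso
    have h9 := h.nine_dvd
    have hg : Nat.gcd 3 (Fintype.card F - 1) = 1 := by
      rw [← Nat.coprime_iff_gcd_eq_one, Nat.Prime.coprime_iff_not_dvd Nat.prime_three]
      exact h1
    rw [hg, one_mul] at hcard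
    refine h.no_cyc (blk1 2 1 F) (blk1_injective (by norm_num) (by norm_num)) ?_ hcyc
    rw [card_SL2]
    have h2 : 9 ∣ (Fintype.card F - 1) * Nat.card (ProjectiveSpecialLinearGroup (Fin 3) F) := h9.mul_left _
    rw [hcard] at h2
    generalize Fintype.card F = q at *
    obtain ⟨r, rfl⟩ : ∃ r, q = r + 1 := ⟨q - 1, by omega⟩
    have e1 : (r + 1) ^ 3 - (r + 1) = (r + 1) * ((r + 1) ^ 2 - 1) := by
      rw [Nat.mul_sub]; ring_nf
    have e2 : (r + 1) ^ 3 - (r + 1) ^ 2 = (r + 1) ^ 2 * r := by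
      rw [Nat.sub_eq_of_eq_add]; ring
    have e3 : (r + 1) ^ 3 - 1 = r * ((r + 1) ^ 2 + (r + 1) + 1) := by
      rw [Nat.sub_eq_of_eq_add]; ring
    rw [e1, e2, e3] at h2
    rw [Nat.add_sub_cancel] at h1
    have hr3 : r % 3 = 1 := by omega
    have c1 : Nat.Coprime 9 r := cop9 h1
    have c2 : Nat.Coprime 9 (r + 1) := cop9 h3q
    have c3 : Nat.Coprime 9 ((r + 1) ^ 2 + (r + 1) + 1) := by
      apply cop9
      intro hd
      have h5 := Nat.mod_eq_zero_of_dvd hd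
      rw [Nat.add_mod, Nat.add_mod ((r + 1) ^ 2), Nat.pow_mod, show (r + 1) % 3 = 2 by omega] at h5
      norm_num at h5
    have h6 := (Nat.Coprime.mul_right (Nat.Coprime.pow_right 2 c2) c1).dvd_of_dvd_mul_right h2
    exact (Nat.Coprime.mul_right c1 c3).dvd_of_dvd_mul_left h6

end SL

end Cfsg.Agent.H322.Cent
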