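import Cfsg.Agent.H322.Cent.Three

/-!
# The unitary groups
-/

set_option autoImplicit false

namespace Cfsg.Agent.H322.Cent

open Matrix Cfsg.Agent.LieClassical.SUBasic

section

variable {F : Type*} [Field F] [Fintype F] {q : ℕ}

theorem q_gt (hF : Fintype.card F = q ^ 2) : 1 < q := by
  have h := Fintype.one_lt_card (α := F)
  rw [hF] at h
  by_contra hq
  have h1 : q = 0 ∨ q = 1 := by omega
  rcases h1 with rfl | rfl <;> norm_num at h

/-- `SU_2` -/
theorem su_two (hF : Fintype.card F = q ^ 2) : ∃ (K : Type) (_ : Field K) (_ : Fintype K), Fintype.card K = q ∧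
    Nonempty (SU 2 F q ≃* SpecialLinearGroup (Fin 2) K) := by
  obtain ⟨K, hK1, hK2, hK3⟩ := Cfsg.Agent.S0280.exists_field hF
  exact ⟨K, hK1, hK2, hK3, Cfsg.Agent.S0281.result hF hK3⟩

theorem card_su_two (hF : Fintype.card F = q ^ 2) : Nat.card (SU 2 F q) = q * (q ^ 2 - 1) := by
  obtain ⟨K, hK1, hK2, hK3, ⟨e⟩⟩ := su_two hF
  rw [Nat.card_congr e.toEquiv, card_SL2, hK3]

theorem exists_three_su (hF : Fintype.card F = q ^ 2) : ∃ a : SU 2 F q, orderOf a = 3 := by
  have : Fact (Nat.Prime 3) := ⟨Nat.prime_three⟩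
  apply exists_prime_orderOf_dvd_card'
  rw [card_su_two hF]
  exact three_dvd _ (by have := q_gt hF; omega)

theorem pow_dvd_su (hF : Fintype.card F = q ^ 2) {l : ℕ} (hl : 3 ≤ l) : q ^ 3 ∣ Nat.card (PSU l F q) := by
  have h := Cfsg.Agent.S0280.result hF l (by omega)
  have hc : (q ^ 3).Coprime (q + 1) := by
    apply Nat.Coprime.pow_left
    simp
  apply hc.dvd_of_dvd_mul_left
  apply (Nat.Coprime.coprime_dvd_right (Nat.gcd_dvd_right l (q + 1)) hc).dvd_of_dvd_mul_left
  rw [h]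
  apply Dvd.dvd.mul_right
  apply pow_dvd_pow
  have h1 : 3 * 2 ≤ l * (l - 1) := Nat.mul_le_mul hl (by omega)
  omega

/-- `PSU_n(q)`, `n ≥ 4` -/
theorem psu_ge (hF : Fintype.card F = q ^ 2) {l : ℕ} (hl : 2 ≤ l) (h : Q (PSU (2 + l) F q)) : False := by
  obtain ⟨a, ha⟩ := exists_three_su hF
  have hq := q_gt hF
  have hs : orderOf (ublk1 2 l F q a) = 3 := by
    rw [orderOf_injective _ (ublk1_injective hF (by omega) (by norm_num) (by omega)), ha]
  have h1 : Nat.card (SU l F q) ∣ 36 :=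
    h.dvd hs (ublk2 2 l F q) (ublk2_injective hF (by omega) (by norm_num) (by omega)) fun k => ublk_comm a k
  by_cases h3 : 3 ≤ l
  · have h2 : Nat.card (PSU l F q) ∣ Nat.card (SU l F q) :=
      Subgroup.card_dvd_of_surjective (QuotientGroup.mk' _) (QuotientGroup.mk'_surjective _)
    have h4 := ((pow_dvd_su hF h3).trans h2).trans h1
    have h5 := Nat.le_of_dvd (by norm_num) h4
    have h6 : q < 4 := by
      by_contra h6
      have : 4 ^ 3 ≤ q ^ 3 := Nat.pow_le_pow_left (by omega) 3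
      omega
    interval_cases q <;> norm_num at h4
  · have hl2 : l = 2 := by omega
    subst hl2
    rw [card_su_two hF] at h1
    have h2 := Nat.le_of_dvd (by norm_num) h1
    have h4 : q < 4 := by
      by_contra h4
      have h5 : 4 ^ 2 ≤ q ^ 2 := Nat.pow_le_pow_left (by omega) 2
      have h6 : 4 * 15 ≤ q * (q ^ 2 - 1) := Nat.mul_le_mul (by omega) (by omega)
      omega
    have h5 : q = 2 := by
      interval_cases q
      · rfl
      · norm_num at h1
    subst h5
    have h6 := Cfsg.Agent.S0280.result hF 4 (by norm_num)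
    apply h.not27
    have h7 : Nat.card (PSU (2 + 2) F 2) = 25920 := by
      have h8 : Nat.gcd 4 (2 + 1) * ((2 + 1) * Nat.card (PSU 4 F 2)) = 77760 := by
        rw [h6]; decide
      have h9 : Nat.gcd 4 (2 + 1) = 1 := by decide
      rw [h9] at h8
      change Nat.card (PSU 4 F 2) = 25920
      omega
    rw [h7]
    norm_num

/-- diagonal matrices in `SU_3` -/
def dgU (q : ℕ) : ((powMonoidHom (q + 1) : Fˣ →* Fˣ).ker) × ((powMonoidHom (q + 1) : Fˣ →* Fˣ).ker) →* SU 3 F q where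
  toFun p := ⟨dg (p.1.1, p.2.1), by
    have h1 : (p.1.1) ^ (q + 1) = 1 := p.1.2
    have h2 : (p.2.1) ^ (q + 1) = 1 := p.2.2
    have hd : ∏ i, (![(p.1.1 : F), (p.2.1 : F), ((p.1.1 * p.2.1)⁻¹ : Fˣ)] : Fin 3 → F) i = 1 := by
      rw [Fin.prod_univ_three]
      change ((p.1.1 : Fˣ) : F) * ((p.2.1 : Fˣ) : F) * (((p.1.1 * p.2.1)⁻¹ : Fˣ) : F) = 1
      rw [← Units.val_mul, ← Units.val_mul, mul_inv_cancel, Units.val_one]
    have ha : ∀ i, (![(p.1.1 : F), (p.2.1 : F), ((p.1.1 * p.2.1)⁻¹ : Fˣ)] : Fin 3 → F) i ^ (q + 1) = 1 := by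
      intro i
      fin_cases i
      · change ((p.1.1 : Fˣ) : F) ^ (q + 1) = 1
        rw [← Units.val_pow_eq_pow_val, h1, Units.val_one]
      · change ((p.2.1 : Fˣ) : F) ^ (q + 1) = 1
        rw [← Units.val_pow_eq_pow_val, h2, Units.val_one]
      · change (((p.1.1 * p.2.1)⁻¹ : Fˣ) : F) ^ (q + 1) = 1
        rw [← Units.val_pow_eq_pow_val, inv_pow, mul_pow, h1, h2, mul_one, inv_one, Units.val_one]
    exact (suDiag q _ hd ha).2⟩
  map_one' := Subtype.ext (map_one dg)
  map_mul' p r := Subtype.ext (map_mul dg (p.1.1, p.2.1) (r.1.1, r.2.1))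

/-- `PSU_3(q)`, `q ≡ 2 (mod 3)` -/
theorem psu_three_two (hF : Fintype.card F = q ^ 2) (h : Q (PSU 3 F q)) (h3 : 3 ∣ q + 1) : q = 2 ∨ q = 5 := by
  classical
  have : Fact (Nat.Prime 3) := ⟨Nat.prime_three⟩
  have hq := q_gt hF
  have hcu : Nat.card (powMonoidHom (q + 1) : Fˣ →* Fˣ).ker = q + 1 := by
    have hfac : q ^ 2 - 1 = (q + 1) * (q - 1) := by
      have := Nat.sq_sub_sq q 1
      simpa using this
    rw [IsCyclic.card_powMonoidHom_ker, Nat.card_eq_fintype_card, Fintype.card_units, hF, hfac]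
    simp
  obtain ⟨ω, hω⟩ := exists_prime_orderOf_dvd_card' (G := (powMonoidHom (q + 1) : Fˣ →* Fˣ).ker) 3
    (by rw [hcu]; exact h3)
  let T := ((powMonoidHom (q + 1) : Fˣ →* Fˣ).ker) × ((powMonoidHom (q + 1) : Fˣ →* Fˣ).ker)
  let τ : T →* PSU 3 F q := (QuotientGroup.mk' _).comp (dgU q)
  have hker : ∀ p : T, τ p = 1 → p.1 = p.2 ∧ p.1.1 ^ 3 = 1 := by
    intro p hp
    have h1 : dgU q p ∈ Subgroup.center _ := (QuotientGroup.eq_one_iff _).1 hp
    obtain ⟨c, hc⟩ := scalar_of_centerU hF (by norm_num) h1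
    have h2 := scalar_dg (p := (p.1.1, p.2.1)) hc
    exact ⟨Subtype.ext h2.1, h2.2⟩
  have ho : orderOf (τ (1, ω)) = 3 := by
    apply orderOf_eq_prime
    · rw [← map_pow]
      have : ((1, ω) : T) ^ 3 = 1 := by
        rw [Prod.ext_iff, Prod.pow_fst, Prod.pow_snd]
        refine ⟨one_pow _, ?_⟩
        change ω ^ 3 = 1
        rw [← hω, pow_orderOf_eq_one]
      rw [this, map_one]
    · intro h1
      have h2 := (hker _ h1).1
      have h3 : 1 = ω := h2
      rw [← h3, orderOf_one] at hω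
      omega
  have h4 := torus h (T := T) (n := q + 1) (by rw [Nat.card_prod, hcu, sq]) τ ho
    (card_cube (F := F) (fun p : τ.ker => p.1.1.1) (by
      intro p r hpr
      have hp := (hker _ p.2).1
      have hr := (hker _ r.2).1
      have hpr' : p.1.1 = r.1.1 := Subtype.ext hpr
      apply Subtype.ext
      rw [Prod.ext_iff]
      exact ⟨hpr', by rw [← hp, ← hr, hpr']⟩) (fun p => (hker _ p.2).2)) h3
  omega

/-- `PSU_3(q)` -/
theorem psu_three (hF : Fintype.card F = q ^ 2) (hq2 : q ≠ 2) (h : Q (PSU 3 F q)) : q = 5 := by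
  have hcard := Cfsg.Agent.S0280.result hF 3 (by norm_num)
  have hq := q_gt hF
  by_cases h2 : 3 ∣ q + 1
  · rcases psu_three_two hF h h2 with h3 | h3
    · exact absurd h3 hq2
    · exact h3
  exfalso
  by_cases h0 : 3 ∣ q
  · apply h.not27
    refine dvd_trans ?_ (pow_dvd_su hF (l := 3) le_rfl)
    rw [show (27 : ℕ) = 3 ^ 3 by norm_num]
    exact pow_dvd_pow_of_dvd h0 3
  · have h9 := h.nine_dvd
    obtain ⟨K, hK1, hK2, hK3, ⟨e⟩⟩ := su_two hF
    have hg : Nat.gcd 3 (q + 1) = 1 := by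
      rw [← Nat.coprime_iff_gcd_eq_one, Nat.Prime.coprime_iff_not_dvd Nat.prime_three]
      exact h2
    rw [hg, one_mul, Finset.prod_range_succ, Finset.prod_range_succ, Finset.prod_range_succ,
      Finset.prod_range_zero, one_mul] at hcard
    rw [if_pos (by decide), if_neg (by decide), if_pos (by decide)] at hcard
    have hcyc : ∀ P : Subgroup (SpecialLinearGroup (Fin 2) K), IsPGroup 3 P → IsCyclic P := by
      rcases char_cases K with ⟨n, hn1, hn⟩ | ⟨-, hcyc⟩
      · exfalso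
        apply h0
        rw [← hK3, hn]
        exact dvd_pow_self 3 (by omega)
      · exact hcyc
    refine h.no_cyc ((ublk1 2 1 F q).comp e.symm.toMonoidHom)
      ((ublk1_injective hF (by norm_num) (by norm_num) (by norm_num)).comp e.symm.injective) ?_ hcyc
    rw [card_SL2, hK3]
    have h5 : 9 ∣ (q + 1) * Nat.card (PSU 3 F q) := h9.mul_left _
    rw [hcard] at h5
    have c1 : Nat.Coprime 9 (q + 1) := cop9 h2
    have c2 : Nat.Coprime 9 q := cop9 h0
    have c3 : Nat.Coprime 9 (q ^ 3 + 1) := by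
      apply cop9
      intro hd
      have h5 := Nat.mod_eq_zero_of_dvd hd
      rw [Nat.add_mod, Nat.pow_mod, show q % 3 = 1 by omega] at h5
      norm_num at h5
    have h6 := (Nat.Coprime.pow_right _ c2).dvd_of_dvd_mul_left h5
    have h7 : 9 ∣ (q ^ (0 + 1) + 1) * (q ^ (1 + 1) - 1) := by
      refine Nat.Coprime.dvd_of_dvd_mul_right ?_ h6
      exact c3
    rw [zero_add, pow_one] at h7
    exact (c1.dvd_of_dvd_mul_left h7).mul_left _

end

end Cfsg.Agent.H322.Cent
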